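import Groth.Agent.Lib.Gor.Quotient
import Groth.Agent.Lib.GorFlat.Artinian
import Mathlib.RingTheory.AdicCompletion.LocalRing
import Mathlib.RingTheory.AdicCompletion.Algebra
import Mathlib.RingTheory.PowerSeries.Inverse

/-!
# A Gorenstein multicross singularity has two branches
-/

set_option autoImplicit false
set_option linter.style.haveILetI false
universe u

open IsLocalRing

namespace GrothLib.Multicross

local notation "T" k:max => PowerSeries k

variable {k : Type u} [Field k] {A : Type u} [CommRing A] [IsLocalRing A] [IsNoetherianRing A] {n : ℕ}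
  (φ : AdicCompletion (maximalIdeal A) A →+* (Fin n → PowerSeries k)) (hinj : Function.Injective φ)
  (hrange : Set.range φ = {f : Fin n → PowerSeries k | ∀ i j : Fin n,
    PowerSeries.constantCoeff (f i) = PowerSeries.constantCoeff (f j)})

/-- The composite `A → k[[t]]^n`. -/
noncomputable def toBranches : A →+* (Fin n → PowerSeries k) :=
  φ.comp (algebraMap A (AdicCompletion (maximalIdeal A) A))

include hinj in
theorem toBranches_injective : Function.Injective (toBranches φ) := by
  intro a b h
  refine sub_eq_zero.1 ?_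
  rw [← Submodule.mem_bot (R := A),
    ← Ideal.iInf_pow_eq_bot_of_isLocalRing (maximalIdeal A) (maximalIdeal.isMaximal A).ne_top, Submodule.mem_iInf]
  intro N
  rw [← Ideal.Quotient.eq, ← Ideal.Quotient.algebraMap_eq, ← AlgHom.commutes (AdicCompletion.evalₐ (maximalIdeal A) N),
    ← AlgHom.commutes (AdicCompletion.evalₐ (maximalIdeal A) N), hinj h]

include hrange in
theorem mem_range_iff (z : Fin n → PowerSeries k) : (∃ x, φ x = z) ↔
    ∀ i j, PowerSeries.constantCoeff (z i) = PowerSeries.constantCoeff (z j) := by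
  have := Set.ext_iff.1 hrange z
  simpa using this

include hinj hrange in
theorem isUnit_of_const {x : AdicCompletion (maximalIdeal A) A} {i : Fin n}
    (h : PowerSeries.constantCoeff (φ x i) ≠ 0) : IsUnit x := by
  have hc : ∀ j, PowerSeries.constantCoeff (φ x j) = PowerSeries.constantCoeff (φ x i) := fun j =>
    (mem_range_iff φ hrange _).1 ⟨x, rfl⟩ j i
  obtain ⟨y, hy⟩ := (mem_range_iff φ hrange (fun j => (φ x j)⁻¹)).2 fun a b => by
    rw [PowerSeries.constantCoeff_inv, PowerSeries.constantCoeff_inv, hc a, hc b]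
  refine IsUnit.of_mul_eq_one y (hinj ?_)
  rw [map_mul, map_one, hy]
  funext j
  exact PowerSeries.mul_inv_cancel _ (by rw [hc j]; exact h)

include hinj hrange in
theorem X_dvd_toBranches {a : A} (ha : a ∈ maximalIdeal A) (i : Fin n) : PowerSeries.X ∣ toBranches φ a i := by
  rw [PowerSeries.X_dvd_iff]
  by_contra h
  have hu : IsUnit (algebraMap A (AdicCompletion (maximalIdeal A) A) a) := isUnit_of_const φ hinj hrange h
  have h1 := hu.map (AdicCompletion.evalₐ (maximalIdeal A) 1)
  rw [AlgHom.commutes, Ideal.Quotient.algebraMap_eq] at h1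
  haveI : Nontrivial (A ⧸ maximalIdeal A ^ 1) := Ideal.Quotient.nontrivial_iff.2 (by
    rw [pow_one]; exact (maximalIdeal.isMaximal A).ne_top)
  have h2 : Ideal.Quotient.mk (maximalIdeal A ^ 1) a = 0 := Ideal.Quotient.eq_zero_iff_mem.2 (by rwa [pow_one])
  rw [h2] at h1
  exact not_isUnit_zero h1

include hinj hrange in
theorem X_pow_dvd_toBranches {N : ℕ} {a : A} (ha : a ∈ maximalIdeal A ^ N) (i : Fin n) :
    PowerSeries.X ^ N ∣ toBranches φ a i := by
  have h1 : (maximalIdeal A).map ((Pi.evalRingHom (fun _ : Fin n => PowerSeries k) i).comp (toBranches φ)) ≤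
      Ideal.span {PowerSeries.X} := Ideal.map_le_iff_le_comap.2 fun b hb =>
    Ideal.mem_span_singleton.2 (X_dvd_toBranches φ hinj hrange hb i)
  have h2 : toBranches φ a i ∈ (Ideal.span {(PowerSeries.X : PowerSeries k)}) ^ N := by
    refine Ideal.pow_right_mono h1 N ?_
    rw [← Ideal.map_pow]
    exact Ideal.mem_map_of_mem _ ha
  rwa [Ideal.span_singleton_pow, Ideal.mem_span_singleton] at h2

include hinj hrange in
/-- Elements of `A` are dense. -/
theorem exists_approx (x : AdicCompletion (maximalIdeal A) A) (N : ℕ) :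
    ∃ a : A, AdicCompletion.evalₐ (maximalIdeal A) N x = Ideal.Quotient.mk _ a ∧
      ∀ i, PowerSeries.X ^ N ∣ φ x i - toBranches φ a i := by
  obtain ⟨a, ha⟩ := Ideal.Quotient.mk_surjective (AdicCompletion.evalₐ (maximalIdeal A) N x)
  refine ⟨a, ha.symm, fun i => ?_⟩
  have hker : x - algebraMap A _ a ∈
      (maximalIdeal A ^ N • ⊤ : Submodule A (AdicCompletion (maximalIdeal A) A)) := by
    rw [AdicCompletion.pow_smul_top_eq_ker_eval (maximalIdeal A).fg_of_isNoetherianRing, LinearMap.mem_ker]
    have h0 : AdicCompletion.evalₐ (maximalIdeal A) N (x - algebraMap A _ a) = 0 := by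
      rw [map_sub, AlgHom.commutes, ← ha, Ideal.Quotient.algebraMap_eq, sub_self]
    rw [← AdicCompletion.factor_evalₐ_eq_eval (maximalIdeal A) (x - algebraMap A _ a) (by simp), h0, map_zero]
  have key : ∀ z ∈ (maximalIdeal A ^ N • ⊤ : Submodule A (AdicCompletion (maximalIdeal A) A)),
      PowerSeries.X ^ N ∣ φ z i := fun z hz => by
    refine Submodule.smul_induction_on hz (fun r hr y _ => ?_) (fun y z hy hz => ?_)
    · rw [Algebra.smul_def, map_mul, Pi.mul_apply]
      exact (X_pow_dvd_toBranches φ hinj hrange hr i).mul_right _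
    · rw [map_add, Pi.add_apply]; exact dvd_add hy hz
  simpa [toBranches] using key _ hker

include hinj hrange in
theorem le_two_of_gorenstein [LocCoh.IsGorensteinLocalRing A] : n ≤ 2 := by
  classical
  by_contra hn
  push Not at hn
  let ψ := toBranches φ
  let τ : Fin n → PowerSeries k := fun _ => PowerSeries.X
  obtain ⟨xτ, hxτ⟩ := (mem_range_iff φ hrange τ).2 fun i j => rfl
  obtain ⟨a, -, ha⟩ := exists_approx φ hinj hrange xτ 2
  choose g hg using ha
  let u : Fin n → PowerSeries k := fun i => 1 - PowerSeries.X * g i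
  have hψa : ∀ i, ψ a i = PowerSeries.X * u i := fun i => by
    have h := hg i
    rw [hxτ] at h
    show toBranches φ a i = _
    linear_combination (norm := (simp only [u, τ]; ring)) -h
  have hu0 : ∀ i, PowerSeries.constantCoeff (u i) = 1 := fun i => by simp [u]
  have huinv : ∀ i, u i * (u i)⁻¹ = 1 := fun i => PowerSeries.mul_inv_cancel _ (by rw [hu0]; exact one_ne_zero)
  have hinv0 : ∀ i, PowerSeries.constantCoeff (u i)⁻¹ = 1 := fun i => by
    rw [PowerSeries.constantCoeff_inv, hu0, inv_one]
  have i₀ : Fin n := ⟨0, by omega⟩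
  have ham : a ∈ maximalIdeal A := by
    rw [mem_maximalIdeal]
    intro hu
    have h1 := congrArg PowerSeries.constantCoeff (hψa i₀)
    rw [map_mul, PowerSeries.constantCoeff_X, zero_mul] at h1
    have h2 : IsUnit (ψ a i₀) := (hu.map ψ).map (Pi.evalRingHom (fun _ : Fin n => PowerSeries k) i₀)
    exact (PowerSeries.isUnit_iff_constantCoeff.1 h2).ne_zero h1
  have hψinj : Function.Injective ψ := toBranches_injective φ hinj
  have hreg : IsSMulRegular A a := by
    intro b c hbc
    refine hψinj (funext fun i => ?_)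
    have h := congrFun (congrArg ψ hbc) i
    simp only [smul_eq_mul, map_mul, Pi.mul_apply, hψa i] at h
    exact mul_left_cancel₀ (mul_ne_zero PowerSeries.X_ne_zero fun h0 => one_ne_zero
      ((hu0 i).symm.trans (by rw [h0, map_zero]))) h
  -- membership in `(a)`
  have hmem : ∀ (x : A) (w : Fin n → PowerSeries k), (∀ i, ψ x i = PowerSeries.X * w i) →
      (∀ i j, PowerSeries.constantCoeff (w i) = PowerSeries.constantCoeff (w j)) → x ∈ Ideal.span {a} := by
    intro x w hw hwc
    obtain ⟨y, hy⟩ := (mem_range_iff φ hrange (fun i => w i * (u i)⁻¹)).2 fun i j => by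
      rw [map_mul, map_mul, hinv0, hinv0, hwc i j]
    have hxy : algebraMap A (AdicCompletion (maximalIdeal A) A) x = algebraMap A _ a * y := hinj (funext fun i => by
      rw [map_mul, Pi.mul_apply, hy]
      show ψ x i = ψ a i * (w i * (u i)⁻¹)
      rw [hψa, hw, show PowerSeries.X * u i * (w i * (u i)⁻¹) = PowerSeries.X * w i * (u i * (u i)⁻¹) by ring,
        huinv, mul_one])
    haveI : IsLocalRing (A ⧸ Ideal.span {a}) := GrothLib.Gor.isLocalRing_quotient ham hreg
    rw [← Ideal.Quotient.eq_zero_iff_mem, ← Submodule.mem_bot (R := A ⧸ Ideal.span {a}),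
      ← Ideal.iInf_pow_eq_bot_of_isLocalRing (maximalIdeal (A ⧸ Ideal.span {a})) (maximalIdeal.isMaximal _).ne_top,
      Submodule.mem_iInf]
    intro N
    obtain ⟨c, hc, -⟩ := exists_approx φ hinj hrange y N
    have h1 := congrArg (AdicCompletion.evalₐ (maximalIdeal A) N) hxy
    rw [map_mul, AlgHom.commutes, AlgHom.commutes, hc, Ideal.Quotient.algebraMap_eq, ← map_mul, Ideal.Quotient.eq] at h1
    have h2 := Ideal.mem_map_of_mem (Ideal.Quotient.mk (Ideal.span {a})) h1
    haveI : IsLocalHom (Ideal.Quotient.mk (Ideal.span {a})) := IsLocalHom.of_surjective _ Ideal.Quotient.mk_surjective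
    rw [Ideal.map_pow, map_maximalIdeal_of_surjective _ Ideal.Quotient.mk_surjective, map_sub, map_mul,
      Ideal.Quotient.eq_zero_iff_mem.2 (Ideal.mem_span_singleton_self a), zero_mul, sub_zero] at h2
    exact h2
  haveI := GrothLib.Gor.isLocalRing_quotient ham hreg
  haveI := GrothLib.Gor.isGorensteinLocalRing_quotient ham hreg
  haveI : IsLocalHom (Ideal.Quotient.mk (Ideal.span {a})) := IsLocalHom.of_surjective _ Ideal.Quotient.mk_surjective
  have hsq : maximalIdeal A * maximalIdeal A ≤ Ideal.span {a} := by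
    intro x hx
    rw [← pow_two] at hx
    choose c hc using X_pow_dvd_toBranches φ hinj hrange hx
    exact hmem x (fun i => PowerSeries.X * c i) (fun i => (hc i).trans (by ring)) fun i j => by simp
  haveI : IsArtinianRing (A ⧸ Ideal.span {a}) := by
    rw [isArtinianRing_iff_isNilpotent_maximalIdeal]
    refine ⟨2, ?_⟩
    rw [← map_maximalIdeal_of_surjective (Ideal.Quotient.mk (Ideal.span {a})) Ideal.Quotient.mk_surjective,
      ← Ideal.map_pow, pow_two, Ideal.zero_eq_bot, Ideal.map_eq_bot_iff_le_ker, Ideal.mk_ker]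
    exact hsq
  obtain ⟨s, -, hsm, hgen⟩ := GrothLib.GorFlat.socCyclic_of_gorenstein (R := A ⧸ Ideal.span {a})
  -- two socle elements
  let e : Fin 3 → Fin n := fun j => ⟨j.1, by omega⟩
  have hel : ∀ j : Fin 3, ∃ x ∈ maximalIdeal A, ∀ i, PowerSeries.X ^ 2 ∣
      ψ x i - (if i = e j then PowerSeries.X else 0) := by
    intro j
    obtain ⟨y, hy⟩ := (mem_range_iff φ hrange (fun i => if i = e j then (PowerSeries.X : PowerSeries k) else 0)).2
      fun i i' => by split_ifs <;> simp
    obtain ⟨x, -, hx⟩ := exists_approx φ hinj hrange y 2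
    refine ⟨x, ?_, fun i => ?_⟩
    · rw [mem_maximalIdeal]
      intro hu
      have h2 : IsUnit (ψ x i₀) := (hu.map ψ).map (Pi.evalRingHom (fun _ : Fin n => PowerSeries k) i₀)
      refine (PowerSeries.isUnit_iff_constantCoeff.1 h2).ne_zero ?_
      have h3 := (dvd_pow_self PowerSeries.X two_ne_zero).trans (hx i₀)
      rw [PowerSeries.X_dvd_iff, map_sub, hy] at h3
      dsimp only at h3
      rw [sub_eq_zero] at h3
      rw [← h3]
      split_ifs <;> simp
    · have := hx i
      rw [hy] at this
      have h4 := dvd_neg.2 this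
      rwa [neg_sub] at h4
  choose x hxm hx using hel
  have hsoc : ∀ j, ∃ c, Ideal.Quotient.mk (Ideal.span {a}) (x j) = c * s := fun j => hgen _ fun b hb => by
    obtain ⟨b, rfl⟩ := Ideal.Quotient.mk_surjective b
    have hbm : b ∈ maximalIdeal A := by
      rw [mem_maximalIdeal]; exact fun hu => (mem_maximalIdeal _).1 hb (hu.map _)
    rw [← map_mul]
    exact Ideal.Quotient.eq_zero_iff_mem.2 (hsq (Ideal.mul_mem_mul hbm (hxm j)))
  choose c hc using hsoc
  -- linear independence modulo `(a)`
  have hindep : ∀ p q : A, p * x 0 - q * x 1 ∈ Ideal.span {a} →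
      PowerSeries.constantCoeff (ψ q (e 1)) = 0 ∧ PowerSeries.constantCoeff (ψ p (e 0)) = 0 := by
    intro p q h
    obtain ⟨w, hw⟩ := Ideal.mem_span_singleton'.1 h
    have hcoef : ∀ i, PowerSeries.constantCoeff (ψ p i) * (if i = e 0 then 1 else 0) -
        PowerSeries.constantCoeff (ψ q i) * (if i = e 1 then 1 else 0) = PowerSeries.constantCoeff (ψ w i) := by
      intro i
      have h1 := congrFun (congrArg ψ hw) i
      simp only [map_mul, map_sub, Pi.mul_apply, Pi.sub_apply, hψa] at h1
      obtain ⟨d0, hd0⟩ := hx 0 i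
      obtain ⟨d1, hd1⟩ := hx 1 i
      rw [sub_eq_iff_eq_add] at hd0 hd1
      rw [hd0, hd1] at h1
      have h2 : PowerSeries.X * (ψ w i * u i) = PowerSeries.X * (ψ p i * ((if i = e 0 then 1 else 0) + PowerSeries.X * d0) -
          ψ q i * ((if i = e 1 then 1 else 0) + PowerSeries.X * d1)) := by
        split_ifs at h1 ⊢ <;> linear_combination h1
      have h3 := congrArg PowerSeries.constantCoeff (mul_left_cancel₀ PowerSeries.X_ne_zero h2)
      simp only [map_mul, map_sub, map_add, apply_ite (PowerSeries.constantCoeff (R := k)), map_one, map_zero,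
        PowerSeries.constantCoeff_X, zero_mul, add_zero, hu0, mul_one] at h3
      exact h3.symm
    have hwc : ∀ i j, PowerSeries.constantCoeff (ψ w i) = PowerSeries.constantCoeff (ψ w j) :=
      (mem_range_iff φ hrange _).1 ⟨_, rfl⟩
    have h2 := hcoef (e 2)
    have h1 := hcoef (e 1)
    have e20 : e 2 ≠ e 0 := by simp [e, Fin.ext_iff]
    have e21 : e 2 ≠ e 1 := by simp [e, Fin.ext_iff]
    have e10 : e 1 ≠ e 0 := by simp [e, Fin.ext_iff]
    rw [if_neg e20, if_neg e21, mul_zero, mul_zero, sub_zero] at h2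
    have h0 := hcoef (e 0)
    rw [if_neg e10, if_pos rfl, mul_zero, mul_one, zero_sub, hwc (e 1) (e 2), ← h2, neg_eq_zero] at h1
    rw [if_neg e10.symm, if_pos rfl, mul_zero, mul_one, sub_zero, hwc (e 0) (e 2), ← h2] at h0
    exact ⟨h1, h0⟩
  obtain ⟨c0, hc0⟩ := Ideal.Quotient.mk_surjective (c 0)
  obtain ⟨c1, hc1⟩ := Ideal.Quotient.mk_surjective (c 1)
  have hrel : c1 * x 0 - c0 * x 1 ∈ Ideal.span {a} := by
    rw [← Ideal.Quotient.eq_zero_iff_mem, map_sub, map_mul, map_mul, hc1, hc0, hc 0, hc 1]
    ring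
  have hc0m := (hindep c1 c0 hrel).1
  have hc0' : c0 ∈ maximalIdeal A := by
    rw [mem_maximalIdeal]
    intro hu
    exact (PowerSeries.isUnit_iff_constantCoeff.1
      ((hu.map ψ).map (Pi.evalRingHom (fun _ : Fin n => PowerSeries k) (e 1)))).ne_zero hc0m
  have hx0 : x 0 ∈ Ideal.span {a} := by
    rw [← Ideal.Quotient.eq_zero_iff_mem, hc 0, ← hc0]
    refine hsm _ ?_
    rw [← map_maximalIdeal_of_surjective (Ideal.Quotient.mk (Ideal.span {a})) Ideal.Quotient.mk_surjective]
    exact Ideal.mem_map_of_mem _ hc0'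
  have hfin := (hindep 1 0 (by simpa using hx0)).2
  simp at hfin

end GrothLib.Multicross
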